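import Mathlib
import Groth.Agent.Lib.Helper7.CompDim.Main
import Groth.Agent.Lib.Helper7.FibRank.Flf
import Groth.Agent.Lib.Helper5.MaxSupp.Geom
import Groth.Agent.Lib.Helper4.Fitting5
import Groth.Agent.Lib.Lead.FittSh
import Groth.Agent.Lib.Helper1.FtSupp

/-!
# Dimensions of the components of the supports of the fibres of a finitely presented module
(helper5)
-/

set_option autoImplicit false
set_option linter.unusedSectionVars false
set_option linter.unusedVariables false
universe u
open CategoryTheory CategoryTheory.Limits AlgebraicGeometry TopologicalSpace Topology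

namespace Groth.Agent.Lib.Helper5.SuppDim

theorem compDims_homeo_le {A B : Type*} [TopologicalSpace A] [TopologicalSpace B] (h : A ≃ₜ B) :
    (fun T : Set A => topologicalKrullDim ↥T) '' irreducibleComponents A ⊆
      (fun T : Set B => topologicalKrullDim ↥T) '' irreducibleComponents B := by
  rintro _ ⟨T, hT, rfl⟩
  refine ⟨h '' T, image_mem_irreducibleComponents_of_isPreirreducible_fiber h h.continuous
    h.isOpenMap (fun x => ?_) h.surjective hT, ?_⟩
  · exact (Set.subsingleton_singleton.preimage h.injective).isPreirreducible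
  · exact ((h.image T).isHomeomorph.topologicalKrullDim_eq).symm

theorem compDims_homeo {A B : Type*} [TopologicalSpace A] [TopologicalSpace B] (h : A ≃ₜ B) :
    (fun T : Set A => topologicalKrullDim ↥T) '' irreducibleComponents A =
      (fun T : Set B => topologicalKrullDim ↥T) '' irreducibleComponents B :=
  (compDims_homeo_le h).antisymm (compDims_homeo_le h.symm)

variable {X : Scheme.{u}}

open Groth.Agent.Lead Groth.Agent.Helper7.FibRank in
theorem support_eq_fitt (F : X.Modules) [F.IsQuasicoherent] (hft : CohB1.IsFT F) :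
    CohB1.support F = ((Fitt.sheafIdeal F 0).support : Set X) := by
  ext x
  obtain ⟨_, ⟨U, hU, rfl⟩, hxU, -⟩ := X.isBasis_affineOpens.exists_subset_of_mem_open
    (Set.mem_univ x) isOpen_univ
  haveI := Groth.Agent.Lead.FLF.ft_sections F hft hU
  have h1 := FittSh.mem_support_iff_le (Fitt.sheafIdeal F 0) hU ⟨x, hxU⟩
  have h2 := FittSh.subsingleton_stalk_iff F hU ⟨x, hxU⟩
  change ¬ Subsingleton _ ↔ _
  rw [h2, not_not]
  change _ ↔ x ∈ (Fitt.sheafIdeal F 0).support
  rw [h1, FittSh.sheafIdeal_ideal F hft 0 ⟨U, hU⟩,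
    ← Groth.Agent.Helper4.Fitting.zeroLocus_ideal_zero, PrimeSpectrum.mem_zeroLocus]
  rfl

open Groth.Agent.Lead Groth.Agent.Helper7.FibRank in
theorem isConstructible_support (F : X.Modules) [F.IsQuasicoherent] (hF : CohB1.IsFP F) :
    IsConstructible (CohB1.support F) := by
  have hft : CohB1.IsFT F := by haveI := hF; infer_instance
  rw [support_eq_fitt F hft]
  haveI hqc := quasiCompact_compl_support_ι (Fitt.sheafIdeal F 0) (fg_sheafIdeal F hF 0)
  have hr : IsRetrocompact ((cosupp (Fitt.sheafIdeal F 0) : X.Opens) : Set X) :=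
    IsRetrocompact_iff_isSpectralMap_subtypeVal.mpr (cosupp (Fitt.sheafIdeal F 0)).ι.isSpectralMap
  have := (hr.isConstructible (cosupp (Fitt.sheafIdeal F 0)).isOpen).compl
  simpa using this

/-- the support of the restriction to the fibre is homeomorphic to the trace of the support -/
noncomputable def suppHomeo {S : Scheme.{u}} (f : X ⟶ S) (F : X.Modules) (hF : Coh.IsCoh F) (s : S) :
    ↥(CohB1.support ((Scheme.Modules.pullback (f.fiberι s)).obj F)) ≃ₜ
      ↥(CohB1.support F ∩ ⇑f ⁻¹' {s}) := by
  have hsupp := Groth.Agent.Lib.Helper5.MaxSupp.support_pullback (f.fiberι s) F hF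
  let g : ↥(CohB1.support ((Scheme.Modules.pullback (f.fiberι s)).obj F)) →
      ↥(CohB1.support F ∩ ⇑f ⁻¹' {s}) := fun x =>
    ⟨f.fiberι s x.1, by
      have hx : x.1 ∈ ⇑(f.fiberι s) ⁻¹' CohB1.support F := hsupp ▸ x.2
      exact ⟨hx, by rw [← f.range_fiberι s]; exact ⟨x.1, rfl⟩⟩⟩
  have hemb : IsEmbedding g := by
    refine IsEmbedding.of_comp ?_ continuous_subtype_val ?_
    · exact ((f.fiberι s).continuous.comp continuous_subtype_val).subtype_mk _
    · exact (f.fiberι s).isEmbedding.comp IsEmbedding.subtypeVal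
  have hsurj : Function.Surjective g := by
    rintro ⟨y, hyZ, hys⟩
    rw [← f.range_fiberι s] at hys
    obtain ⟨x, rfl⟩ := hys
    exact ⟨⟨x, by rw [hsupp]; exact hyZ⟩, rfl⟩
  exact hemb.toHomeomorphOfSurjective hsurj

theorem main {S : Scheme.{u}} (f : X ⟶ S)
    [LocallyOfFinitePresentation f] [QuasiCompact f] [QuasiSeparated f]
    (F : X.Modules) [Coh.IsQCoh F] (hF : CohB1.IsFP F) (Φ : Finset ℕ) :
    Topology.IsLocallyConstructible {s : S |
      (fun Z : Set ↥(CohB1.support ((Scheme.Modules.pullback (f.fiberι s)).obj F)) => topologicalKrullDim ↥Z) ''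
          irreducibleComponents ↥(CohB1.support ((Scheme.Modules.pullback (f.fiberι s)).obj F)) =
        (fun n : ℕ => (n : WithBot ℕ∞)) '' (Φ : Set ℕ)} := by
  have hft : CohB1.IsFT F := by haveI := hF; infer_instance
  have hcoh : Coh.IsCoh F := ⟨inferInstance, hft⟩
  have hZc : IsClosed (CohB1.support F) := Groth.Agent.Helper1.FtGen.isClosed_support F hft
  have hZ : IsLocallyConstructible (CohB1.support F) :=
    (isConstructible_support F hF).isLocallyConstructible
  have hZs : ∀ s : S, IsLocallyClosed (Subtype.val ⁻¹' (CohB1.support F) : Set ↥(⇑f ⁻¹' {s})) :=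
    fun s => (hZc.preimage continuous_subtype_val).isLocallyClosed
  have key := Groth.Agent.Helper7.CompDim.isLocallyConstructible_setOf_componentDims_eq
    (Φ := (fun n : ℕ => (n : WithBot ℕ∞)) '' (Φ : Set ℕ)) f (CohB1.support F) hZ hZs
  convert key using 1
  ext s
  rw [Set.mem_ofPred_eq, Set.mem_ofPred_eq, compDims_homeo (suppHomeo f F hcoh s)]

end Groth.Agent.Lib.Helper5.SuppDim
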